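import Groth.Agent.Grpd.Descent
import Mathlib

/-! The quotient of a finite flat Hopf algebra by a finite flat closed subgroup, through the affine groupoid
of translations. -/

set_option autoImplicit false

open TensorProduct WithConv

universe u v

noncomputable section

namespace Groth.Agent.FinQuot

open Groth.Agent.GrpdLib

variable {R : Type u} [CommRing R] {A : Type v} [CommRing A] [HopfAlgebra R A] (I : Ideal A) [I.IsHopfIdeal R]

/-- The projection to the subgroup, as a bialgebra map. -/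
def projC : A →ₐc[R] A ⧸ I :=
  BialgHom.ofAlgHom (Ideal.Quotient.mkₐ R I) (AlgHom.ext fun _ => rfl) (AlgHom.ext fun _ => rfl)

/-- The projection. -/
abbrev proj : A →ₐ[R] A ⧸ I := Ideal.Quotient.mkₐ R I

theorem projC_toAlgHom : (projC (R := R) I : A →ₐ[R] A ⧸ I) = proj I := rfl

/-- The right translation. -/
def tA : A →ₐ[R] A ⊗[R] (A ⧸ I) :=
  (Algebra.TensorProduct.map (AlgHom.id R A) (proj I)).comp (Bialgebra.comulAlgHom R A)

/-- The invariant functions. -/
abbrev inv (R : Type u) [CommRing R] {A : Type v} [CommRing A] [HopfAlgebra R A] (I : Ideal A) [I.IsHopfIdeal R] :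
    Subalgebra R A :=
  AlgHom.equalizer ((Algebra.TensorProduct.map (AlgHom.id R A) (Ideal.Quotient.mkₐ R I)).comp
    (Bialgebra.comulAlgHom R A)) (Algebra.TensorProduct.includeLeft : A →ₐ[R] A ⊗[R] (A ⧸ I))

theorem mem_inv {a : A} : a ∈ inv R I ↔ tA (R := R) I a = a ⊗ₜ 1 := Iff.rfl

section Conv

variable {C : Type v} [CommRing C] [HopfAlgebra R C] {D : Type v} [CommRing D] [Algebra R D]

theorem mul_inverse (h : C →ₐ[R] D) :
    toConv h * toConv (h.comp (HopfAlgebra.antipodeAlgHom R C)) = 1 := by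
  have h1 : toConv (AlgHom.id R C) * toConv (HopfAlgebra.antipodeAlgHom R C) = 1 := by
    apply WithConv.ofConv_injective
    apply AlgHom.toLinearMap_injective
    apply WithConv.toConv_injective
    rw [AlgHom.toLinearMap_convMul, AlgHom.toLinearMap_convOne]
    simp [LinearMap.id_mul_antipode]
  have h2 := AlgHom.comp_convMul_distrib h (toConv (AlgHom.id R C)) (toConv (HopfAlgebra.antipodeAlgHom R C))
  rw [h1] at h2
  apply WithConv.ofConv_injective
  simp only [ofConv_toConv, AlgHom.comp_id] at h2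
  rw [← h2]
  exact AlgHom.ext fun c => h.commutes _

theorem inverse_mul (h : C →ₐ[R] D) :
    toConv (h.comp (HopfAlgebra.antipodeAlgHom R C)) * toConv h = 1 := by
  have h2 := AlgHom.comp_convMul_distrib h (toConv (HopfAlgebra.antipodeAlgHom R C)) (toConv (AlgHom.id R C))
  rw [AlgHom.antipode_id_cancel] at h2
  apply WithConv.ofConv_injective
  simp only [ofConv_toConv, AlgHom.comp_id] at h2
  rw [← h2]
  exact AlgHom.ext fun c => h.commutes _

end Conv

section Points

variable {D : Type v} [CommRing D] [Algebra R D]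

/-- The base point of an arrow. -/
abbrev basePt (f : A ⊗[R] (A ⧸ I) →ₐ[R] D) : A →ₐ[R] D := f.comp Algebra.TensorProduct.includeLeft

/-- The group part of an arrow. -/
abbrev grpPt (f : A ⊗[R] (A ⧸ I) →ₐ[R] D) : A ⧸ I →ₐ[R] D := f.comp Algebra.TensorProduct.includeRight

theorem comp_tA (f : A ⊗[R] (A ⧸ I) →ₐ[R] D) :
    f.comp (tA I) = (toConv (basePt I f) * toConv ((grpPt I f).comp (proj I))).ofConv := by
  refine AlgHom.ext fun a => ?_
  show f (tA I a) = _
  rw [AlgHom.convMul_apply, tA, AlgHom.comp_apply, Bialgebra.comulAlgHom_apply]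
  induction Coalgebra.comul (R := R) a using TensorProduct.induction_on with
  | zero => simp
  | add x y hx hy => simp only [map_add, hx, hy]
  | tmul x y =>
    rw [Algebra.TensorProduct.map_tmul, AlgHom.id_apply,
      show x ⊗ₜ[R] proj (R := R) I y = x ⊗ₜ[R] 1 * (1 ⊗ₜ[R] proj (R := R) I y) by simp, map_mul]
    simp

theorem comp_proj_mul (g h : A ⧸ I →ₐ[R] D) :
    toConv ((toConv g * toConv h).ofConv.comp (proj I)) = toConv (g.comp (proj I)) * toConv (h.comp (proj I)) := by
  have := AlgHom.convMul_comp_bialgHom_distrib (toConv g) (toConv h) (projC (R := R) I)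
  rw [projC_toAlgHom] at this
  simp only [ofConv_toConv] at this
  rw [this, toConv_ofConv]

theorem cancel_inverse (x : A →ₐ[R] D) (g : A ⧸ I →ₐ[R] D) :
    (toConv x * toConv (g.comp (proj I)) * toConv ((g.comp (HopfAlgebra.antipodeAlgHom R (A ⧸ I))).comp (proj I))).ofConv = x := by
  have h1 : toConv ((1 : WithConv (A ⧸ I →ₐ[R] D)).ofConv.comp (proj I)) = 1 :=
    WithConv.ofConv_injective (AlgHom.ext fun _ => rfl)
  rw [mul_assoc, ← comp_proj_mul, mul_inverse, h1, mul_one, ofConv_toConv]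

end Points

/-- An arrow from its two parts. -/
def mkPt {D : Type v} [CommRing D] [Algebra R D] (x : A →ₐ[R] D) (h : A ⧸ I →ₐ[R] D) : A ⊗[R] (A ⧸ I) →ₐ[R] D :=
  Algebra.TensorProduct.lift x h fun _ _ => Commute.all _ _

theorem basePt_mkPt {D : Type v} [CommRing D] [Algebra R D] (x : A →ₐ[R] D) (h : A ⧸ I →ₐ[R] D) :
    basePt I (mkPt I x h) = x := Algebra.TensorProduct.lift_comp_includeLeft _ _ _

theorem grpPt_mkPt {D : Type v} [CommRing D] [Algebra R D] (x : A →ₐ[R] D) (h : A ⧸ I →ₐ[R] D) :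
    grpPt I (mkPt I x h) = h := Algebra.TensorProduct.lift_comp_includeRight _ _ fun _ _ => Commute.all _ _

theorem pt_ext {D : Type v} [CommRing D] [Algebra R D] {f g : A ⊗[R] (A ⧸ I) →ₐ[R] D}
    (h₁ : basePt I f = basePt I g) (h₂ : grpPt I f = grpPt I g) : f = g :=
  Algebra.TensorProduct.ext h₁ h₂

theorem compat {D : Type v} [CommRing D] (p q : A ⊗[R] (A ⧸ I) →+* D)
    (h : ∀ a, p (algebraMap A (A ⊗[R] (A ⧸ I)) a) = q (tA (R := R) I a)) (r : R) :
    p (algebraMap R _ r) = q (algebraMap R _ r) := by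
  have := h (algebraMap R A r)
  rwa [AlgHom.commutes, ← IsScalarTower.algebraMap_apply] at this

/-- The product of the group parts of two composable arrows. -/
def grpR {D : Type v} [CommRing D] (p q : A ⊗[R] (A ⧸ I) →+* D)
    (h : ∀ a, p (algebraMap A (A ⊗[R] (A ⧸ I)) a) = q (tA (R := R) I a)) : (A ⧸ I) ⊗[R] (A ⧸ I) →+* D :=
  liftRing (q.comp (Algebra.TensorProduct.includeRight : A ⧸ I →ₐ[R] A ⊗[R] (A ⧸ I)).toRingHom)
    (p.comp (Algebra.TensorProduct.includeRight : A ⧸ I →ₐ[R] A ⊗[R] (A ⧸ I)).toRingHom) fun r => by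
      simp only [RingHom.comp_apply, AlgHom.toRingHom_eq_coe, RingHom.coe_coe, AlgHom.commutes]
      exact (compat I p q h r).symm

/-- The composite of two arrows, on rings. -/
def compR {D : Type v} [CommRing D] (p q : A ⊗[R] (A ⧸ I) →+* D)
    (h : ∀ a, p (algebraMap A (A ⊗[R] (A ⧸ I)) a) = q (tA (R := R) I a)) : A ⊗[R] (A ⧸ I) →+* D :=
  liftRing (q.comp (Algebra.TensorProduct.includeLeft : A →ₐ[R] A ⊗[R] (A ⧸ I)).toRingHom)
    ((grpR I p q h).comp (Bialgebra.comulAlgHom R (A ⧸ I)).toRingHom) fun r => by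
      simp only [RingHom.comp_apply, AlgHom.toRingHom_eq_coe, RingHom.coe_coe, AlgHom.commutes,
        Algebra.TensorProduct.algebraMap_apply, grpR, liftRing_tmul, map_one, mul_one]

theorem compR_eq {D : Type v} [CommRing D] [Algebra R D] {p q : A ⊗[R] (A ⧸ I) →+* D}
    (h : ∀ a, p (algebraMap A (A ⊗[R] (A ⧸ I)) a) = q (tA (R := R) I a)) (P Q : A ⊗[R] (A ⧸ I) →ₐ[R] D)
    (hP : P.toRingHom = p) (hQ : Q.toRingHom = q) :
    compR I p q h = (mkPt I (basePt I Q) (toConv (grpPt I Q) * toConv (grpPt I P)).ofConv).toRingHom := by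
  subst hP hQ
  refine ringHom_ext_tmul (fun a => ?_) (fun x => ?_)
  · simp [compR, mkPt, grpR]
  · show compR I P.toRingHom Q.toRingHom h ((1 : A) ⊗ₜ x) = mkPt I _ _ ((1 : A) ⊗ₜ x)
    rw [compR, liftRing_tmul, mkPt, Algebra.TensorProduct.lift_tmul, map_one, map_one, one_mul, one_mul,
      AlgHom.convMul_apply, RingHom.comp_apply]
    show grpR I P.toRingHom Q.toRingHom h (Coalgebra.comul (R := R) x) = _
    induction Coalgebra.comul (R := R) x using TensorProduct.induction_on with
    | zero => simp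
    | add u v hu hv => simp only [map_add, hu, hv]
    | tmul u v => simp [grpR]

theorem exists_lift {D : Type v} [CommRing D] (p q : A ⊗[R] (A ⧸ I) →+* D)
    (h : ∀ a, p (algebraMap A (A ⊗[R] (A ⧸ I)) a) = q (tA (R := R) I a)) :
    ∃ (_ : Algebra R D) (P Q : A ⊗[R] (A ⧸ I) →ₐ[R] D), P.toRingHom = p ∧ Q.toRingHom = q ∧
      basePt I P = (toConv (basePt I Q) * toConv ((grpPt I Q).comp (proj I))).ofConv := by
  letI : Algebra R D := (q.comp (algebraMap R (A ⊗[R] (A ⧸ I)))).toAlgebra
  let Q : A ⊗[R] (A ⧸ I) →ₐ[R] D := { q with commutes' := fun _ => rfl }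
  let P : A ⊗[R] (A ⧸ I) →ₐ[R] D := { p with commutes' := compat I p q h }
  exact ⟨_, P, Q, rfl, rfl, by rw [← comp_tA]; exact AlgHom.ext h⟩

/-- The inverse arrow. -/
def iA : A ⊗[R] (A ⧸ I) →ₐ[R] A ⊗[R] (A ⧸ I) :=
  mkPt I (tA I) ((Algebra.TensorProduct.includeRight : A ⧸ I →ₐ[R] A ⊗[R] (A ⧸ I)).comp
    (HopfAlgebra.antipodeAlgHom R (A ⧸ I)))

/-- The unit arrow. -/
def eA : A ⊗[R] (A ⧸ I) →ₐ[R] A :=
  mkPt I (AlgHom.id R A) ((Algebra.ofId R A).comp (Bialgebra.counitAlgHom R (A ⧸ I)))

theorem eA_left (a : A) : eA (R := R) I (algebraMap A _ a) = a := by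
  show eA (R := R) I (a ⊗ₜ 1) = a
  simp [eA, mkPt]

theorem eA_tA (a : A) : eA (R := R) I (tA (R := R) I a) = a := by
  have h := comp_tA I (eA (R := R) I)
  rw [eA, basePt_mkPt, grpPt_mkPt] at h
  have h1 : toConv (((Algebra.ofId R A).comp (Bialgebra.counitAlgHom R (A ⧸ I))).comp (proj I)) = 1 :=
    WithConv.ofConv_injective (AlgHom.ext fun _ => rfl)
  rw [h1, mul_one, ofConv_toConv] at h
  exact DFunLike.congr_fun h a

theorem iA_left (a : A) : iA (R := R) I (algebraMap A _ a) = tA (R := R) I a := by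
  show iA (R := R) I (a ⊗ₜ 1) = _
  simp [iA, mkPt, ← Algebra.TensorProduct.one_def]

theorem iA_tA (a : A) : iA (R := R) I (tA (R := R) I a) = algebraMap A _ a := by
  have hb := comp_tA I (AlgHom.id R (A ⊗[R] (A ⧸ I)))
  rw [AlgHom.id_comp] at hb
  simp only [basePt, grpPt, AlgHom.id_comp] at hb
  have hb' := congrArg toConv hb
  rw [toConv_ofConv] at hb'
  have h : (iA (R := R) I).comp (tA I) = Algebra.TensorProduct.includeLeft := by
    rw [comp_tA, iA, basePt_mkPt, grpPt_mkPt, hb', toConv_ofConv]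
    exact cancel_inverse I _ _
  exact DFunLike.congr_fun h a

/-- The groupoid of right translations by the subgroup. -/
def gr : GR A (A ⊗[R] (A ⧸ I)) where
  t := (tA I).toRingHom
  e := (eA I).toRingHom
  i := (iA I).toRingHom
  e_s := eA_left I
  e_t := eA_tA I
  i_s := iA_left I
  i_t := iA_tA I
  comp p q h := compR I p q h
  comp_s p q h a := by
    obtain ⟨_, P, Q, rfl, rfl, -⟩ := exists_lift I p q h
    rw [compR_eq I h P Q rfl rfl]
    exact DFunLike.congr_fun (basePt_mkPt I (basePt I Q) _) a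
  comp_t p q h a := by
    obtain ⟨_, P, Q, rfl, rfl, hb⟩ := exists_lift I p q h
    rw [compR_eq I h P Q rfl rfl]
    have h1 := comp_tA I (mkPt I (basePt I Q) (toConv (grpPt I Q) * toConv (grpPt I P)).ofConv)
    rw [basePt_mkPt, grpPt_mkPt, comp_proj_mul, ← mul_assoc, ← toConv_ofConv (toConv (basePt I Q) * _),
      ← hb, ← comp_tA] at h1
    exact DFunLike.congr_fun h1 a
  comp_nat g p q h h' := by
    obtain ⟨_, P, Q, rfl, rfl, -⟩ := exists_lift I p q h
    letI : Algebra R _ := (g.comp (algebraMap R _)).toAlgebra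
    let γ : _ →ₐ[R] _ := { g with commutes' := fun r => rfl }
    rw [compR_eq I h P Q rfl rfl, compR_eq I h' (γ.comp P) (γ.comp Q) rfl rfl]
    have h1 : γ.comp (mkPt I (basePt I Q) (toConv (grpPt I Q) * toConv (grpPt I P)).ofConv) =
        mkPt I (basePt I (γ.comp Q)) (toConv (grpPt I (γ.comp Q)) * toConv (grpPt I (γ.comp P))).ofConv := by
      refine pt_ext I ?_ ?_
      · rw [basePt_mkPt]
        show γ.comp (basePt I (mkPt I _ _)) = _
        rw [basePt_mkPt]; rfl
      · rw [grpPt_mkPt]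
        show γ.comp (grpPt I (mkPt I _ _)) = _
        rw [grpPt_mkPt, AlgHom.comp_convMul_distrib]; rfl
    exact congrArg AlgHom.toRingHom h1
  assoc p q r h₁ h₂ h₃ h₄ := by
    obtain ⟨_, Q, T, rfl, rfl, -⟩ := exists_lift I q r h₂
    let P : A ⊗[R] (A ⧸ I) →ₐ[R] _ := { p with commutes' := fun x => (compat I p Q.toRingHom h₁ x).trans (Q.commutes x) }
    rw [compR_eq I h₃ (mkPt I (basePt I Q) (toConv (grpPt I Q) * toConv (grpPt I P)).ofConv) T
        (compR_eq I h₁ P Q rfl rfl).symm rfl,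
      compR_eq I h₄ P (mkPt I (basePt I T) (toConv (grpPt I T) * toConv (grpPt I Q)).ofConv) rfl
        (compR_eq I h₂ Q T rfl rfl).symm]
    simp only [basePt_mkPt, grpPt_mkPt, toConv_ofConv, mul_assoc]
  comp_e p q hq h := by
    obtain ⟨_, P, Q, rfl, rfl, -⟩ := exists_lift I p q h
    rw [compR_eq I h P Q rfl rfl]
    have h1 : toConv (grpPt I Q) = 1 := WithConv.ofConv_injective <| AlgHom.ext fun x => by
      show Q ((1 : A) ⊗ₜ x) = algebraMap R _ (Coalgebra.counit x)
      have := hq ((1 : A) ⊗ₜ x)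
      change Q _ = P (algebraMap A _ (eA (R := R) I ((1 : A) ⊗ₜ x))) at this
      rw [this]
      simp only [eA, mkPt, Algebra.TensorProduct.lift_tmul, map_one, one_mul, AlgHom.comp_apply]
      exact (congrArg P (IsScalarTower.algebraMap_apply R A _ _).symm).trans (P.commutes _)
    have h2 : basePt I Q = basePt I P := AlgHom.ext fun a => by
      show Q (a ⊗ₜ 1) = P (a ⊗ₜ 1)
      exact (hq (a ⊗ₜ 1)).trans (congrArg P (congrArg (algebraMap A (A ⊗[R] (A ⧸ I))) (eA_left (R := R) I a)))
    refine congrArg AlgHom.toRingHom (pt_ext I ?_ ?_)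
    · rw [basePt_mkPt, h2]
    · rw [grpPt_mkPt, h1, one_mul, ofConv_toConv]
  e_comp p q hp h := by
    obtain ⟨_, P, Q, rfl, rfl, -⟩ := exists_lift I p q h
    rw [compR_eq I h P Q rfl rfl]
    have h1 : toConv (grpPt I P) = 1 := WithConv.ofConv_injective <| AlgHom.ext fun x => by
      show P ((1 : A) ⊗ₜ x) = algebraMap R _ (Coalgebra.counit x)
      have := hp ((1 : A) ⊗ₜ x)
      change P _ = Q (tA (R := R) I (eA (R := R) I ((1 : A) ⊗ₜ x))) at this
      rw [this]
      simp only [eA, mkPt, Algebra.TensorProduct.lift_tmul, map_one, one_mul, AlgHom.comp_apply]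
      exact (congrArg Q ((tA (R := R) I).commutes _)).trans (Q.commutes _)
    refine congrArg AlgHom.toRingHom (pt_ext I ?_ ?_)
    · rw [basePt_mkPt]
    · rw [grpPt_mkPt, h1, mul_one, ofConv_toConv]
  comp_i p q hq h b := by
    obtain ⟨_, P, Q, rfl, rfl, -⟩ := exists_lift I p q h
    rw [compR_eq I h P Q rfl rfl]
    have hQ : Q = P.comp (iA I) := AlgHom.ext hq
    have h1 : toConv (grpPt I Q) * toConv (grpPt I P) = 1 := by
      rw [hQ, ← inverse_mul (grpPt I P)]
      congr 2
      exact AlgHom.ext fun x => by simp [iA, mkPt]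
    have h2 : mkPt I (basePt I Q) (toConv (grpPt I Q) * toConv (grpPt I P)).ofConv =
        P.comp ((tA I).comp (eA I)) := by
      refine pt_ext I ?_ ?_
      · rw [basePt_mkPt, hQ]
        exact AlgHom.ext fun a => (congrArg P (iA_left (R := R) I a)).trans
          (congrArg (fun z => P (tA (R := R) I z)) (eA_left (R := R) I a).symm)
      · rw [grpPt_mkPt, h1]
        refine AlgHom.ext fun x => ?_
        show algebraMap R _ (Coalgebra.counit x) = P (tA (R := R) I (eA (R := R) I ((1 : A) ⊗ₜ x)))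
        rw [show eA (R := R) I ((1 : A) ⊗ₜ x) = algebraMap R A (Coalgebra.counit x) by simp [eA, mkPt, Algebra.ofId_apply],
          AlgHom.commutes, AlgHom.commutes]
    exact DFunLike.congr_fun h2 b
  i_comp p q hp h b := by
    obtain ⟨_, P, Q, rfl, rfl, -⟩ := exists_lift I p q h
    rw [compR_eq I h P Q rfl rfl]
    have hP : P = Q.comp (iA I) := AlgHom.ext hp
    have h1 : toConv (grpPt I Q) * toConv (grpPt I P) = 1 := by
      rw [hP, ← mul_inverse (grpPt I Q)]
      congr 2
      exact AlgHom.ext fun x => by simp [iA, mkPt]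
    have h2 : mkPt I (basePt I Q) (toConv (grpPt I Q) * toConv (grpPt I P)).ofConv =
        Q.comp ((IsScalarTower.toAlgHom R A (A ⊗[R] (A ⧸ I))).comp (eA I)) := by
      refine pt_ext I ?_ ?_
      · rw [basePt_mkPt]
        exact AlgHom.ext fun a => congrArg Q (congrArg (algebraMap A (A ⊗[R] (A ⧸ I))) (eA_left (R := R) I a).symm)
      · rw [grpPt_mkPt, h1]
        refine AlgHom.ext fun x => ?_
        show algebraMap R _ (Coalgebra.counit x) =
          Q (algebraMap A _ (eA (R := R) I ((1 : A) ⊗ₜ x)))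
        rw [show eA (R := R) I ((1 : A) ⊗ₜ x) = algebraMap R A (Coalgebra.counit x) by simp [eA, mkPt, Algebra.ofId_apply],
          ← IsScalarTower.algebraMap_apply, Q.commutes]
    exact DFunLike.congr_fun h2 b

/-- The translates of functions generate over the functions. -/
theorem span_tA : Submodule.span A (Set.range (tA (R := R) I)) = ⊤ := by
  let i1 : A →ₐ[R] A ⊗[R] A := Algebra.TensorProduct.includeLeft
  let i2 : A →ₐ[R] A ⊗[R] A := Algebra.TensorProduct.includeRight
  let Ψ : A ⊗[R] A →ₐ[R] A ⊗[R] A := Algebra.TensorProduct.lift i1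
    (toConv (i1.comp (HopfAlgebra.antipodeAlgHom R A)) * toConv i2).ofConv fun _ _ => Commute.all _ _
  let Φ : A ⊗[R] A →ₐ[R] A ⊗[R] A := Algebra.TensorProduct.lift i1 (Bialgebra.comulAlgHom R A)
    fun _ _ => Commute.all _ _
  have hcomul : (toConv i1 * toConv i2).ofConv = Bialgebra.comulAlgHom R A := AlgHom.ext fun a => by
    rw [AlgHom.convMul_apply, Bialgebra.comulAlgHom_apply]
    induction Coalgebra.comul (R := R) a using TensorProduct.induction_on with
    | zero => simp
    | add x y hx hy => simp only [map_add, hx, hy]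
    | tmul x y => simp [i1, i2]
  have hΦΨ : Φ.comp Ψ = AlgHom.id R _ := by
    refine Algebra.TensorProduct.ext ?_ ?_
    · exact AlgHom.ext fun a => by simp [Φ, Ψ, i1]
    · have e1 : Φ.comp i1 = i1 := Algebra.TensorProduct.lift_comp_includeLeft _ _ _
      have e2 : Φ.comp i2 = Bialgebra.comulAlgHom R A := Algebra.TensorProduct.lift_comp_includeRight _ _ fun _ _ => Commute.all _ _
      have e3 : Ψ.comp i2 = (toConv (i1.comp (HopfAlgebra.antipodeAlgHom R A)) * toConv i2).ofConv :=
        Algebra.TensorProduct.lift_comp_includeRight _ _ fun _ _ => Commute.all _ _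
      show (Φ.comp Ψ).comp i2 = (AlgHom.id R _).comp i2
      rw [AlgHom.comp_assoc, e3, AlgHom.comp_convMul_distrib, ofConv_toConv, ofConv_toConv, ← AlgHom.comp_assoc,
        e1, e2, ← hcomul, toConv_ofConv, ← mul_assoc, inverse_mul, one_mul, ofConv_toConv, AlgHom.id_comp]
  let G : A ⊗[R] A →ₐ[R] A ⊗[R] (A ⧸ I) := Algebra.TensorProduct.map (AlgHom.id R A) (proj I)
  have hG : Function.Surjective G := TensorProduct.map_surjective Function.surjective_id Ideal.Quotient.mk_surjective
  rw [eq_top_iff]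
  intro z _
  obtain ⟨w, rfl⟩ := hG z
  rw [← show Φ (Ψ w) = w from DFunLike.congr_fun hΦΨ w]
  induction Ψ w using TensorProduct.induction_on with
  | zero => simp
  | add x y hx hy => rw [map_add, map_add]; exact add_mem hx hy
  | tmul a b =>
    have : G (Φ (a ⊗ₜ b)) = a • tA (R := R) I b := by
      refine Eq.trans ?_ (Algebra.smul_def (A := A ⊗[R] (A ⧸ I)) a _).symm
      rw [show Φ (a ⊗ₜ b) = i1 a * Bialgebra.comulAlgHom R A b from
        Algebra.TensorProduct.lift_tmul _ _ _ _ _, map_mul]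
      congr 1
    rw [this]
    exact Submodule.smul_mem _ _ (Submodule.subset_span ⟨b, rfl⟩)

/-- The quotient by a finite flat subgroup: finite, flat, and with translations as the relation. -/
theorem quotient [Module.Finite R A] [Module.Projective R (A ⧸ I)] :
    Module.FaithfullyFlat (inv R I) A ∧ Module.Finite (inv R I) A ∧ Algebra.FinitePresentation (inv R I) A ∧
      ∃ e : A ⊗[inv R I] A ≃ₐ[A] A ⊗[R] (A ⧸ I), ∀ a, e (1 ⊗ₜ a) = tA (R := R) I a := by
  haveI : Module.Finite R (A ⧸ I) := Module.Finite.of_surjective (proj (R := R) I).toLinearMap Ideal.Quotient.mk_surjective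
  haveI : Module.FinitePresentation R (A ⧸ I) := Module.finitePresentation_of_projective R (A ⧸ I)
  haveI : Algebra.FinitePresentation A (A ⊗[R] (A ⧸ I)) := inferInstance
  have hC : ∀ c : inv R I, (gr (R := R) I).t (algebraMap (inv R I) A c) =
      algebraMap A (A ⊗[R] (A ⧸ I)) (algebraMap (inv R I) A c) := fun c => c.2
  have hinv : ∀ a, (gr (R := R) I).t a = algebraMap A (A ⊗[R] (A ⧸ I)) a →
      a ∈ (algebraMap (inv R I) A).range := fun a ha => ⟨⟨a, ha⟩, rfl⟩
  obtain ⟨hflat, hfin, hfp, hbij⟩ :=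
    (gr (R := R) I).quotient (C := inv R I) Subtype.val_injective hC hinv (span_tA I)
  haveI := hflat; haveI := hfin
  have hff : Module.FaithfullyFlat (inv R I) A := Module.FaithfullyFlat.of_comap_surjective
    (fun p => by
      haveI : Algebra.IsIntegral (inv R I) A := Algebra.IsIntegral.of_finite _ _
      obtain ⟨q, -, hq, hq'⟩ := Ideal.exists_ideal_over_prime_of_isIntegral p.asIdeal (⊥ : Ideal A)
        ((Ideal.comap_bot_of_injective (algebraMap (inv R I) A) Subtype.val_injective).trans_le bot_le)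
      exact ⟨⟨q, hq⟩, PrimeSpectrum.ext hq'⟩)
  refine ⟨hff, hfin, hfp, ?_⟩
  let tC : A →ₐ[inv R I] A ⊗[R] (A ⧸ I) :=
    { (gr (R := R) I).t with commutes' := fun c => (hC c).trans (IsScalarTower.algebraMap_apply _ _ _ c).symm }
  let ν : A ⊗[inv R I] A →ₐ[A] A ⊗[R] (A ⧸ I) :=
    Algebra.TensorProduct.lift (Algebra.ofId A _) tC fun _ _ => Commute.all _ _
  have hν : Function.Bijective ν := by
    have : ∀ z, ν z = (gr (R := R) I).mult hC (TensorProduct.comm (inv R I) A A z) := by
      intro z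
      induction z using TensorProduct.induction_on with
      | zero => simp
      | add u v hu hv => simp only [map_add, hu, hv]
      | tmul a a' =>
        rw [TensorProduct.comm_tmul]
        simp [ν, tC, GR.mult, mul_comm, Algebra.ofId_apply]
    rw [show (ν : A ⊗[inv R I] A → _) = (gr (R := R) I).mult hC ∘ TensorProduct.comm (inv R I) A A from funext this]
    exact hbij.comp (TensorProduct.comm (inv R I) A A).bijective
  exact ⟨AlgEquiv.ofBijective ν hν, fun a => by
    show ν (1 ⊗ₜ a) = _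
    simp only [ν, tC, Algebra.TensorProduct.lift_tmul, map_one, one_mul]
    rfl⟩

end Groth.Agent.FinQuot
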