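import Groth.Agent.FinQuot.Basic
import Mathlib

/-! Flatness of the quotient and the product formula for ranks. -/

set_option autoImplicit false
set_option synthInstance.maxHeartbeats 200000

open TensorProduct

universe u v

noncomputable section

namespace Groth.Agent.FinQuot

/-- Flatness descends along a faithfully flat extension of the algebra. -/
theorem flat_of_tower (R : Type u) [CommRing R] (B A : Type v) [CommRing B] [CommRing A] [Algebra R B] [Algebra R A]
    [Algebra B A] [IsScalarTower R B A] [Module.FaithfullyFlat B A] [Module.Flat R A] : Module.Flat R B := by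
  refine Module.Flat.iff_lTensor_injective'.2 fun J => ?_
  let j : B →ₗ[R] A := (IsScalarTower.toAlgHom R B A).toLinearMap
  have hj : Function.Injective (j.rTensor J) := by
    have h : (j.rTensor J : B ⊗[R] J → A ⊗[R] J) =
        fun y => AlgebraTensorModule.cancelBaseChange R B B A J ((1 : A) ⊗ₜ[B] y) := by
      funext y
      induction y using TensorProduct.induction_on with
      | zero => simp
      | add x y hx hy => simp only [map_add, TensorProduct.tmul_add, hx, hy]
      | tmul b i => simp [j, Algebra.smul_def]
    rw [h]
    exact (AlgebraTensorModule.cancelBaseChange R B B A J).injective.comp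
      (Module.FaithfullyFlat.tensorProduct_mk_injective (B := A) _)
  intro x y hxy
  refine hj (Module.Flat.lTensor_preserves_injective_linearMap (M := A) J.subtype (Submodule.subtype_injective J) ?_)
  have hcomm : ∀ z : B ⊗[R] J, J.subtype.lTensor A (j.rTensor J z) = j.rTensor R (J.subtype.lTensor B z) := fun z => by
    rw [← LinearMap.comp_apply, ← LinearMap.comp_apply, LinearMap.lTensor_comp_rTensor, LinearMap.rTensor_comp_lTensor]
  rw [hcomm, hcomm, hxy]

variable {R : Type u} [CommRing R] {A : Type v} [CommRing A] [HopfAlgebra R A] (I : Ideal A) [I.IsHopfIdeal R]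
  [Module.Finite R A] [Module.Projective R (A ⧸ I)]

theorem inv_faithfullyFlat : Module.FaithfullyFlat (inv R I) A := (quotient I).1

theorem inv_finite : Module.Finite (inv R I) A := (quotient I).2.1

theorem inv_flat [Module.Flat R A] : Module.Flat R (inv R I) :=
  haveI := inv_faithfullyFlat (R := R) I
  flat_of_tower R (inv R I) A

theorem inv_finite_base [IsNoetherianRing R] : Module.Finite R (inv R I) :=
  Module.Finite.of_injective (inv R I).val.toLinearMap Subtype.val_injective

/-- The rank over the invariants is the rank of the subgroup. -/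
theorem rank_over_inv (P : PrimeSpectrum (inv R I)) :
    Module.rankAtStalk A P = Module.rankAtStalk (A ⧸ I) (PrimeSpectrum.comap (algebraMap R (inv R I)) P) := by
  obtain ⟨hff, hfin, hfp, e, -⟩ := quotient (R := R) I
  haveI := hff; haveI := hfin; haveI := hfp
  haveI : Module.Finite R (A ⧸ I) := Module.Finite.of_surjective (proj (R := R) I).toLinearMap Ideal.Quotient.mk_surjective
  obtain ⟨P', hP'⟩ := PrimeSpectrum.comap_surjective_of_faithfullyFlat (B := A) P
  have h1 := Module.rankAtStalk_baseChange (R := inv R I) (M := A) (S := A) P'
  have h2 := Module.rankAtStalk_baseChange (R := R) (M := A ⧸ I) (S := A) P'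
  rw [Module.rankAtStalk_eq_of_equiv e.toLinearEquiv, h2] at h1
  rw [hP'] at h1
  rw [← h1, ← hP', ← PrimeSpectrum.comap_comp_apply, ← IsScalarTower.algebraMap_eq]

/-- Ranks in a tower, the rank over the middle algebra being constant along a fibre. -/
theorem rank_tower {R : Type u} [CommRing R] {B A : Type v} [CommRing B] [CommRing A] [Algebra R B] [Algebra R A]
    [Algebra B A] [IsScalarTower R B A] [Module.Finite R B] [Module.Flat R B] [Module.Finite B A] [Module.Flat B A]
    [Module.Finite R A] [Module.Flat R A] (q : PrimeSpectrum R) (d : ℕ)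
    (hd : ∀ P : PrimeSpectrum B, PrimeSpectrum.comap (algebraMap R B) P = q → Module.rankAtStalk A P = d) :
    Module.rankAtStalk A q = d * Module.rankAtStalk B q := by
  let κ := q.asIdeal.ResidueField
  let X := B ⊗[R] κ
  letI : Algebra κ X := Algebra.TensorProduct.rightAlgebra
  have hc : ∀ c : κ, algebraMap κ (B ⊗[R] κ) c = (1 : B) ⊗ₜ[R] c := fun c => rfl
  let ec : κ ⊗[R] B ≃ₗ[κ] X := LinearEquiv.ofBijective
    { toFun := TensorProduct.comm R κ B
      map_add' := map_add _
      map_smul' := fun c z => by
        induction z using TensorProduct.induction_on with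
        | zero => simp
        | add x y hx hy => simp only [smul_add, map_add, hx, hy, RingHom.id_apply]
        | tmul d b => simp [Algebra.smul_def, hc, TensorProduct.smul_tmul', mul_comm] }
    (TensorProduct.comm R κ B).bijective
  haveI : Module.Finite κ X := Module.Finite.equiv ec
  haveI : IsArtinianRing X := IsArtinianRing.of_finite κ X
  haveI : Finite (MaximalSpectrum X) := inferInstance
  let M := X ⊗[B] A
  have hd' : ∀ P : PrimeSpectrum X, Module.rankAtStalk M P = d := fun P => by
    rw [Module.rankAtStalk_baseChange]
    refine hd _ ?_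
    rw [← PrimeSpectrum.comap_comp_apply, ← IsScalarTower.algebraMap_eq,
      show algebraMap R X = (algebraMap κ X).comp (algebraMap R κ) from
        ((Algebra.TensorProduct.includeRight : κ →ₐ[R] X).comp_algebraMap).symm, PrimeSpectrum.comap_comp_apply]
    refine PrimeSpectrum.ext ?_
    show (PrimeSpectrum.comap (algebraMap κ X) P).asIdeal.comap (algebraMap R κ) = q.asIdeal
    rw [Ideal.eq_bot_of_prime (PrimeSpectrum.comap (algebraMap κ X) P).asIdeal, ← RingHom.ker_eq_comap_bot,
      Ideal.ker_algebraMap_residueField]
  haveI : Module.Free X M := Module.free_of_flat_of_finrank_eq X M d fun P => by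
    letI : Field (X ⧸ P.1) := Ideal.Quotient.field P.1
    obtain ⟨Q⟩ : Nonempty (PrimeSpectrum (X ⧸ P.1)) := inferInstance
    rw [← hd' (PrimeSpectrum.comap (algebraMap X (X ⧸ P.1)) Q), ← Module.rankAtStalk_baseChange (S := X ⧸ P.1) Q,
      Module.rankAtStalk_eq_finrank_of_free]
    rfl
  have hfr : Module.finrank κ M = d * Module.finrank κ X := by
    rcases subsingleton_or_nontrivial X with hX | hX
    · haveI : Subsingleton M := Module.subsingleton X M
      simp [Module.finrank_zero_of_subsingleton]
    · obtain ⟨P⟩ : Nonempty (PrimeSpectrum X) := inferInstance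
      rw [← hd' P, Module.rankAtStalk_eq_finrank_of_free, ← Module.finrank_mul_finrank κ X M, mul_comm]
      rfl
  have e1 : M ≃ₗ[κ] κ ⊗[R] A := by
    refine LinearEquiv.ofBijective
      { toFun := fun z => TensorProduct.comm R A κ
          (AlgebraTensorModule.cancelBaseChange R B B A κ (TensorProduct.comm B X A z))
        map_add' := fun x y => by simp only [map_add]
        map_smul' := fun c z => ?_ }
      ((TensorProduct.comm R A κ).bijective.comp
        ((AlgebraTensorModule.cancelBaseChange R B B A κ).bijective.comp (TensorProduct.comm B X A).bijective))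
    induction z using TensorProduct.induction_on with
    | zero => simp
    | add x y hx hy => simp only [smul_add, map_add, hx, hy, RingHom.id_apply]
    | tmul x a =>
      induction x using TensorProduct.induction_on with
      | zero => simp
      | add u v hu hv => simp only [TensorProduct.add_tmul, smul_add, map_add, hu, hv, RingHom.id_apply]
      | tmul b t =>
        have hsm : c • (b ⊗ₜ[R] t : X) = b ⊗ₜ[R] (c * t) := by
          rw [Algebra.smul_def, show algebraMap κ X c = (1 : B) ⊗ₜ[R] c from rfl]
          show ((1 : B) ⊗ₜ[R] c) * (b ⊗ₜ[R] t) = _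
          simp
        rw [RingHom.id_apply, TensorProduct.smul_tmul', hsm]
        show (c * t) ⊗ₜ[R] (b • a) = c • (t ⊗ₜ[R] (b • a))
        rw [TensorProduct.smul_tmul', smul_eq_mul]
  rw [Module.rankAtStalk_eq (M := A), Module.rankAtStalk_eq (M := B)]
  show Module.finrank κ (κ ⊗[R] A) = d * Module.finrank κ (κ ⊗[R] B)
  rw [ec.finrank_eq, ← hfr, e1.finrank_eq]

/-- The product formula for ranks. -/
theorem rank_mul [IsNoetherianRing R] [Module.Flat R A] (q : PrimeSpectrum R) :
    Module.rankAtStalk A q = Module.rankAtStalk (A ⧸ I) q * Module.rankAtStalk (inv R I) q :=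
  haveI := inv_faithfullyFlat (R := R) I
  haveI := inv_finite (R := R) I
  haveI := inv_flat (R := R) I
  haveI := inv_finite_base (R := R) I
  rank_tower q _ fun P hP => by rw [rank_over_inv, hP]

end Groth.Agent.FinQuot
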