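import Groth.Agent.FinQuot.Normal
import Groth.Agent.MultT.OpenSub
import Groth.Prelude.Def_CartDual2
import Mathlib

/-! The Cartier dual of a short exact sequence of finite flat commutative groups is exact. -/

set_option autoImplicit false
set_option synthInstance.maxHeartbeats 400000

universe u

open TensorProduct CartDual

noncomputable section

namespace Groth.Agent.FinQuot

/-- A faithfully flat map of finite projective algebras has surjective transpose. -/
theorem transpose_surjective {R : Type u} [CommRing R] [IsNoetherianRing R] {A A'' : Type u} [CommRing A]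
    [HopfAlgebra R A] [Module.Finite R A] [Module.Projective R A] [CommRing A''] [HopfAlgebra R A'']
    [Module.Finite R A''] [Module.Projective R A''] (f : A'' →ₐc[R] A)
    (hf : (f : A'' →ₐ[R] A).toRingHom.FaithfullyFlat) : Function.Surjective (transpose R f) := by
  letI : Algebra A'' A := (f : A'' →ₐ[R] A).toRingHom.toAlgebra
  haveI : IsScalarTower R A'' A := IsScalarTower.of_algebraMap_eq fun r => ((f : A'' →ₐ[R] A).commutes r).symm
  haveI : Module.FaithfullyFlat A'' A := hf
  let i : A'' →ₗ[R] A := (f : A'' →ₐ[R] A).toLinearMap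
  have hi : ∀ (P : Type u) [AddCommGroup P] [Module R P], Function.Injective (i.rTensor P) := by
    intro P _ _
    have h : (i.rTensor P : A'' ⊗[R] P → A ⊗[R] P) =
        fun y => AlgebraTensorModule.cancelBaseChange R A'' A'' A P ((1 : A) ⊗ₜ[A''] y) := by
      funext y
      induction y using TensorProduct.induction_on with
      | zero => simp
      | add x y hx hy => simp only [map_add, TensorProduct.tmul_add, hx, hy]
      | tmul b p => simp [i, Algebra.smul_def, RingHom.algebraMap_toAlgebra]
    rw [h]
    exact (AlgebraTensorModule.cancelBaseChange R A'' A'' A P).injective.comp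
      (Module.FaithfullyFlat.tensorProduct_mk_injective (B := A) _)
  have hinj : Function.Injective i := fun x y h => by
    have := hi R (a₁ := x ⊗ₜ 1) (a₂ := y ⊗ₜ 1) (by simp [h])
    simpa using congrArg (TensorProduct.rid R A'') this
  haveI : Module.Flat R (A ⧸ LinearMap.range i) := by
    refine Module.Flat.iff_lTensor_injective'.2 fun J => ?_
    intro x y hxy
    rw [← sub_eq_zero] at hxy ⊢
    rw [← map_sub] at hxy
    generalize x - y = z at hxy ⊢
    obtain ⟨w, rfl⟩ := LinearMap.rTensor_surjective J (Submodule.mkQ_surjective (LinearMap.range i)) z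
    rw [← LinearMap.comp_apply, LinearMap.lTensor_comp_rTensor, ← LinearMap.rTensor_comp_lTensor,
      LinearMap.comp_apply] at hxy
    obtain ⟨v, hv⟩ := (rTensor_exact R (LinearMap.exact_map_mkQ_range i) (Submodule.mkQ_surjective _) _).1 hxy
    let q : R →ₗ[R] R ⧸ J := Submodule.mkQ J
    have hq : q.lTensor A'' v = 0 := by
      refine hi (R ⧸ J) ?_
      rw [map_zero, ← LinearMap.comp_apply, LinearMap.rTensor_comp_lTensor, ← LinearMap.lTensor_comp_rTensor,
        LinearMap.comp_apply, hv, ← LinearMap.comp_apply, ← LinearMap.lTensor_comp,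
        show q ∘ₗ J.subtype = 0 from LinearMap.ext fun j => (Submodule.Quotient.mk_eq_zero J).2 j.2,
        LinearMap.lTensor_zero, LinearMap.zero_apply]
    obtain ⟨u, hu⟩ := (lTensor_exact A'' (LinearMap.exact_subtype_mkQ J) (Submodule.mkQ_surjective J) v).1 hq
    have hw : w = i.rTensor J u := by
      refine Module.Flat.lTensor_preserves_injective_linearMap (M := A) J.subtype J.injective_subtype ?_
      rw [← LinearMap.comp_apply, LinearMap.lTensor_comp_rTensor, ← LinearMap.rTensor_comp_lTensor,
        LinearMap.comp_apply, hu, hv]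
    rw [hw, ← LinearMap.comp_apply, ← LinearMap.rTensor_comp,
      show (LinearMap.range i).mkQ ∘ₗ i = 0 from LinearMap.ext fun a => (Submodule.Quotient.mk_eq_zero _).2 ⟨a, rfl⟩,
      LinearMap.rTensor_zero, LinearMap.zero_apply]
  haveI : Module.FinitePresentation R (A ⧸ LinearMap.range i) := Module.finitePresentation_of_finite R _
  haveI : Module.Projective R (A ⧸ LinearMap.range i) := Module.Flat.projective_of_finitePresentation
  obtain ⟨r, hr⟩ : ∃ r : A →ₗ[R] A'', r ∘ₗ i = LinearMap.id := by
    obtain ⟨s, hs⟩ := Module.projective_lifting_property (LinearMap.range i).mkQ LinearMap.id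
      (Submodule.mkQ_surjective (LinearMap.range i))
    have h : (Function.Injective i ∧ ∃ l, (LinearMap.range i).mkQ ∘ₗ l = LinearMap.id) →
        Function.Surjective (LinearMap.range i).mkQ ∧ ∃ l, l ∘ₗ i = LinearMap.id :=
      ((Function.Exact.split_tfae' (LinearMap.exact_map_mkQ_range i)).out 0 1).1
    exact (h ⟨hinj, s, hs⟩).2
  exact fun z => ⟨WithConv.toConv (z.ofConv ∘ₗ r), WithConv.ext (LinearMap.ext fun a => by
    show z.ofConv (r (i a)) = z.ofConv a
    rw [show r (i a) = a from LinearMap.congr_fun hr a])⟩

variable {R : Type u} [CommRing R] [IsNoetherianRing R] {A' A A'' : Type u} [CommRing A'] [HopfAlgebra R A']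
  [Coalgebra.IsCocomm R A'] [Module.Finite R A'] [Module.Projective R A'] [CommRing A] [HopfAlgebra R A]
  [Coalgebra.IsCocomm R A] [Module.Finite R A] [Module.Projective R A] [CommRing A''] [HopfAlgebra R A'']
  [Coalgebra.IsCocomm R A''] [Module.Finite R A''] [Module.Projective R A'']

/-- **Exactness of Cartier duality.** -/
theorem transpose_exact (f : A'' →ₐc[R] A) (hf : (f : A'' →ₐ[R] A).toRingHom.FaithfullyFlat)
    (g : A →ₐc[R] A') (hg : Function.Surjective g)
    (hker : RingHom.ker (g : A →ₐ[R] A') = Ideal.map (f : A'' →ₐ[R] A) (RingHom.ker (Bialgebra.counitAlgHom R A''))) :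
    (transpose R g : D R A' →ₐ[R] D R A).toRingHom.FaithfullyFlat ∧ Function.Surjective (transpose R f) ∧
      RingHom.ker (transpose R f : D R A →ₐ[R] D R A'') = Ideal.map (transpose R g : D R A' →ₐ[R] D R A)
        (RingHom.ker (Bialgebra.counitAlgHom R (D R A'))) := by
  have hT := transpose_surjective f hf
  obtain ⟨hH, ⟨E⟩⟩ := MultT.exists_quot_equiv (transpose R f) hT
  set I₀ := RingHom.ker (transpose R f : D R A →ₐ[R] D R A'') with hI₀
  haveI := hH
  let eE : (D R A ⧸ I₀) ≃ₐ[R] D R A'' := Ideal.quotientKerAlgEquivOfSurjective (f := (transpose R f : D R A →ₐ[R] D R A'')) hT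
  haveI : Module.Projective R (D R A ⧸ I₀) := Module.Projective.of_equiv eE.toLinearEquiv.symm
  haveI : Module.Finite R (D R A ⧸ I₀) := Module.Finite.equiv eE.toLinearEquiv.symm
  have hginj : Function.Injective (transpose R g) := fun y z h => WithConv.ext (LinearMap.ext fun a' => by
    obtain ⟨a, rfl⟩ := hg a'
    exact LinearMap.congr_fun (congrArg WithConv.ofConv h) a)
  -- pairing
  let P : D R A ⊗[R] D R A'' ≃ₗ[R] Module.Dual R (A ⊗[R] A'') :=
    TensorProduct.congr (toDual R A) (toDual R A'') ≪≫ₗ dualTensorEquiv R A A''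
  have hP : ∀ (z : D R A ⊗[R] D R A) (a : A) (b : A''),
      P ((transpose R f : D R A →ₗ[R] D R A'').lTensor (D R A) z) (a ⊗ₜ b) = ev₂ R A z (a ⊗ₜ f b) := by
    intro z a b
    induction z using TensorProduct.induction_on with
    | zero => simp
    | add u v hu hv => simp only [map_add, LinearMap.add_apply, hu, hv]
    | tmul u v =>
      rw [LinearMap.lTensor_tmul, ev₂_tmul]
      simp [P, TensorProduct.congr_tmul, coe_apply]
  have hmem : ∀ x, x ∈ inv R I₀ ↔ ∀ (a : A) (b : A''), x.ofConv (a * f b) = x.ofConv a * Coalgebra.counit (R := R) b := by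
    intro x
    rw [mem_inv, ← (Algebra.TensorProduct.congr (AlgEquiv.refl (R := R) (A₁ := D R A)) eE).injective.eq_iff]
    have h1 : Algebra.TensorProduct.congr (AlgEquiv.refl (R := R) (A₁ := D R A)) eE (tA (R := R) I₀ x) =
        (transpose R f : D R A →ₗ[R] D R A'').lTensor (D R A) (Coalgebra.comul (R := R) x) := by
      show Algebra.TensorProduct.congr _ eE (Algebra.TensorProduct.map _ _ (Coalgebra.comul (R := R) x)) = _
      generalize Coalgebra.comul (R := R) x = z
      induction z using TensorProduct.induction_on with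
      | zero => simp
      | add u v hu hv => simp only [map_add, hu, hv]
      | tmul u v => rfl
    have h2 : Algebra.TensorProduct.congr (AlgEquiv.refl (R := R) (A₁ := D R A)) eE (x ⊗ₜ 1) = x ⊗ₜ 1 := by
      simp
    rw [h1, h2, ← P.injective.eq_iff]
    constructor
    · intro h a b
      have := LinearMap.congr_fun h (a ⊗ₜ b)
      rw [hP, ev₂_coalgebra_comul_tmul] at this
      refine this.trans ?_
      simp [P, TensorProduct.congr_tmul, coe_apply, LinearMap.convOne_def]
    · intro h
      refine TensorProduct.ext' fun a b => ?_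
      rw [hP, ev₂_coalgebra_comul_tmul, h]
      simp [P, TensorProduct.congr_tmul, coe_apply, LinearMap.convOne_def]
  have hfK : ∀ b, g (f b) = algebraMap R A' (Coalgebra.counit (R := R) b) := fun b => by
    have hb : f (b - algebraMap R A'' (Coalgebra.counit (R := R) b)) ∈ RingHom.ker (g : A →ₐ[R] A') := by
      rw [hker]
      exact Ideal.mem_map_of_mem _ (by simp [RingHom.mem_ker, Bialgebra.counit_algebraMap])
    rw [RingHom.mem_ker, map_sub, map_sub, AlgHomClass.commutes f, AlgHomClass.commutes] at hb
    exact sub_eq_zero.1 hb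
  have hrange : (transpose R g : D R A' →ₐ[R] D R A).range = inv R I₀ := by
    apply le_antisymm
    · rintro _ ⟨y, rfl⟩
      refine (hmem _).2 fun a b => ?_
      show y.ofConv (g (a * f b)) = y.ofConv (g a) * _
      rw [map_mul, hfK, ← Algebra.commutes, ← Algebra.smul_def, map_smul, smul_eq_mul, mul_comm]
    · intro x hx
      have hx' := (hmem x).1 hx
      have hkill : ∀ a, g a = 0 → x.ofConv a = 0 := by
        intro a ha
        have ha' : a ∈ RingHom.ker (g : A →ₐ[R] A') := ha
        rw [hker] at ha'
        have key : ∀ c : A, x.ofConv (c * a) = 0 := by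
          clear ha
          induction ha' using Submodule.span_induction with
          | mem z hz =>
            obtain ⟨k, hk, rfl⟩ := hz
            intro c
            have := hx' c k
            rw [show Coalgebra.counit (R := R) k = 0 from hk, mul_zero] at this
            exact this
          | zero => intro c; simp
          | add u v _ _ hu hv => intro c; rw [mul_add, map_add, hu, hv, add_zero]
          | smul d z _ hz => intro c; rw [smul_eq_mul, ← mul_assoc]; exact hz _
        simpa using key 1
      let gl : A →ₗ[R] A' := (g : A →ₐ[R] A').toLinearMap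
      let y : A' →ₗ[R] R := (Submodule.liftQ (LinearMap.ker gl) x.ofConv fun a ha => hkill a ha) ∘ₗ
        (gl.quotKerEquivOfSurjective hg).symm.toLinearMap
      refine ⟨WithConv.toConv y, WithConv.ext (LinearMap.ext fun a => ?_)⟩
      show (Submodule.liftQ (LinearMap.ker gl) x.ofConv fun a ha => hkill a ha)
        ((gl.quotKerEquivOfSurjective hg).symm (gl a)) = _
      rw [show (gl.quotKerEquivOfSurjective hg).symm (gl a) = Submodule.Quotient.mk a from
        (LinearEquiv.symm_apply_eq _).2 rfl]
      rfl
  obtain ⟨hff, -, -, -⟩ := quotient (R := R) I₀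
  haveI := hff
  let eR : D R A' ≃ₐ[R] inv R I₀ :=
    (AlgEquiv.ofInjective (transpose R g : D R A' →ₐ[R] D R A) hginj).trans (Subalgebra.equivOfEq _ _ hrange)
  refine ⟨?_, hT, ?_⟩
  · have hval : (transpose R g : D R A' →ₐ[R] D R A).toRingHom =
        (algebraMap (inv R I₀) (D R A)).comp (eR : D R A' →+* inv R I₀) := RingHom.ext fun y => rfl
    rw [hval]
    exact RingHom.FaithfullyFlat.stableUnderComposition _ _ (RingHom.FaithfullyFlat.of_bijective eR.bijective)
      ((RingHom.faithfullyFlat_algebraMap_iff).2 hff)
  · rw [← augIdealSpan_inv (k := R) (I := I₀), SGA3.augIdealSpan, Ideal.map]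
    congr 1
    ext x
    constructor
    · rintro ⟨hx, hx0⟩
      rw [← hrange] at hx
      obtain ⟨y, rfl⟩ := hx
      exact ⟨y, (CoalgHomClass.counit_comp_apply (transpose R g) y).symm.trans hx0, rfl⟩
    · rintro ⟨y, hy, rfl⟩
      exact ⟨hrange ▸ ⟨y, rfl⟩, (CoalgHomClass.counit_comp_apply (transpose R g) y).trans hy⟩

end Groth.Agent.FinQuot
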